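import Cfsg.Agent.H743.LB.Row
import Cfsg.Agent.H741.Lb.AsmBig

/-!
# S4879, the row `²F₄(q)`, `p = 11`, in the form of `H741.Lb.AsmBig` (helper743)
-/

set_option autoImplicit false

namespace Cfsg.Agent.H743.LB

open Cfsg

universe u

/-- **The row `²F₄(q)`, `p = 11`**, exact form of the hub. -/
theorem rowQ {M : Ideal AlgInt} [Fact (Nat.Prime 11)] (hM : IsPModular 11 M) :
    H741.Lb.Row.{u} 11 M (fun S _ => H741.Lb.Q2F4 S) :=
  row hM

end Cfsg.Agent.H743.LB
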