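import Cfsg.Agent.H741.Lb.Defs

/-!
# S4879, the row `²F₄(q)`, `p = 11` (helper743): the subgroup of index `5`

`exists_H` : if `G ⧸ T` is cyclic, all elements of order `11` are conjugate in `G` and lie in `T`, and no such element is
conjugate in `T` to its third, fourth, fifth or ninth power, then there is a subgroup `H` of index `5` containing `T` and
the centralizers of all elements of order `11`.
-/

set_option autoImplicit false
set_option linter.style.haveILetI false

namespace Cfsg.Agent.H743.LB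

open Cfsg Subgroup

/-- the image of the centralizer has an index divisible by `5` -/
theorem five_dvd {G : Type*} [Group G] [Finite G] (T : Subgroup G) [T.Normal] (hcyc : IsCyclic (G ⧸ T))
    (h2 : ∀ x : G, orderOf x = 11 → x ∈ T) (hO : H741.Lb.OneC 11 G)
    (hcl : ∀ x g : T, orderOf x = 11 → ∀ j : ℕ, (j = 3 ∨ j = 4 ∨ j = 5 ∨ j = 9) → g * x * g⁻¹ ≠ x ^ j) {x : G}
    (hx : orderOf x = 11) : 5 ∣ ((centralizer ({x} : Set G)).map (QuotientGroup.mk' T)).index := by
  have hx1 : x ≠ 1 := by rintro rfl; rw [orderOf_one] at hx; norm_num at hx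
  have hx3o : orderOf (x ^ 3) = 11 := by
    rw [orderOf_pow, hx]; norm_num
  have hx3 : x ^ 3 ≠ 1 := by intro h; rw [h, orderOf_one] at hx3o; norm_num at hx3o
  obtain ⟨a, ha⟩ := isConj_iff.1 (hO x (x ^ 3) hx1 hx3 ⟨1, by rw [hx, pow_one]⟩ ⟨1, by rw [hx3o, pow_one]⟩)
  have hpow : ∀ k : ℕ, a ^ k * x * (a ^ k)⁻¹ = x ^ 3 ^ k := by
    intro k
    induction k with
    | zero => simp
    | succ k ih =>
      have e : a ^ (k + 1) * x * (a ^ (k + 1))⁻¹ = a ^ k * (a * x * a⁻¹) * (a ^ k)⁻¹ := by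
        rw [pow_succ]; group
      rw [e, ha, ← conj_pow, ih, ← pow_mul, pow_succ]
  have hcomm : ∀ u v : G ⧸ T, u * v = v * u := fun u v => by
    letI : CommGroup (G ⧸ T) := IsCyclic.commGroup
    exact mul_comm u v
  set C : Subgroup (G ⧸ T) := (centralizer ({x} : Set G)).map (QuotientGroup.mk' T) with hC
  have hCn : C.Normal := ⟨fun u hu v => by
    rw [hcomm v u, mul_inv_cancel_right]; exact hu⟩
  -- the order of `a` modulo `C`
  have hmem : ∀ k : ℕ, ((QuotientGroup.mk' T a) ^ k ∈ C) → 5 ∣ k := by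
    intro k hk
    rw [← map_pow] at hk
    obtain ⟨c, hc, hck⟩ := hk
    have hcx : c * x = x * c := (mem_centralizer_singleton_iff.1 hc)
    have ht : c⁻¹ * a ^ k ∈ T := by
      rw [← QuotientGroup.eq]
      exact hck
    have h3 : (c⁻¹ * a ^ k) * x * (c⁻¹ * a ^ k)⁻¹ = x ^ 3 ^ k := by
      have e : (c⁻¹ * a ^ k) * x * (c⁻¹ * a ^ k)⁻¹ = c⁻¹ * (a ^ k * x * (a ^ k)⁻¹) * c := by group
      rw [e, hpow]
      have h4 : Commute c (x ^ 3 ^ k) := Commute.pow_right hcx _
      rw [mul_assoc, ← h4.eq, inv_mul_cancel_left]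
    have h5 : x ^ 3 ^ k = x ^ (3 ^ (k % 5)) := by
      rw [pow_eq_pow_iff_modEq, hx]
      have h6 : (3 ^ k) = 3 ^ (k % 5) * (3 ^ 5) ^ (k / 5) := by
        rw [← pow_mul, ← pow_add, Nat.mod_add_div]
      rw [h6]
      have h7 : 3 ^ 5 ≡ 1 [MOD 11] := by decide
      have h8 := (h7.pow (k / 5)).mul_left (3 ^ (k % 5))
      rw [one_pow, mul_one] at h8
      exact h8
    by_contra h5k
    have hk5 : k % 5 = 1 ∨ k % 5 = 2 ∨ k % 5 = 3 ∨ k % 5 = 4 := by omega
    have hcl' := hcl ⟨x, h2 x hx⟩ ⟨_, ht⟩ (by rw [Subgroup.orderOf_mk]; exact hx)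
    have key : ∀ j : ℕ, (j = 3 ∨ j = 4 ∨ j = 5 ∨ j = 9) → x ^ 3 ^ k ≠ x ^ j := by
      intro j hj h
      exact hcl' j hj (Subtype.ext (h3.trans h))
    have hred : ∀ a b : ℕ, a ≡ b [MOD 11] → x ^ a = x ^ b := fun a b h => by
      rw [pow_eq_pow_iff_modEq, hx]; exact h
    rcases hk5 with h | h | h | h
    · exact key 3 (by norm_num) (by rw [h5, h]; exact hred _ _ (by decide))
    · exact key 9 (by norm_num) (by rw [h5, h]; exact hred _ _ (by decide))
    · exact key 5 (by norm_num) (by rw [h5, h]; exact hred _ _ (by decide))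
    · exact key 4 (by norm_num) (by rw [h5, h]; exact hred _ _ (by decide))
  have h5 : (QuotientGroup.mk' T a) ^ 5 ∈ C := by
    rw [← map_pow]
    refine ⟨a ^ 5, ?_, rfl⟩
    rw [SetLike.mem_coe, mem_centralizer_singleton_iff]
    have h6 := hpow 5
    have h7 : x ^ 3 ^ 5 = x := by
      have h8 : x ^ 3 ^ 5 = x ^ 1 := by
        rw [pow_eq_pow_iff_modEq, hx]
        decide
      rw [h8, pow_one]
    rw [h7] at h6
    exact mul_inv_eq_iff_eq_mul.1 h6
  -- the image in the quotient has order `5`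
  have h8 : orderOf ((QuotientGroup.mk' C) (QuotientGroup.mk' T a)) = 5 := by
    have h9 : ((QuotientGroup.mk' C) (QuotientGroup.mk' T a)) ^ 5 = 1 := by
      rw [← map_pow]
      exact (QuotientGroup.eq_one_iff _).2 h5
    have : Fact (Nat.Prime 5) := ⟨by norm_num⟩
    refine orderOf_eq_prime h9 ?_
    intro h
    have h10 : (QuotientGroup.mk' T a) ^ 1 ∈ C := by
      rw [pow_one]
      exact (QuotientGroup.eq_one_iff _).1 h
    have := hmem 1 h10
    omega
  rw [Subgroup.index_eq_card]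
  have h11 := orderOf_dvd_natCard ((QuotientGroup.mk' C) (QuotientGroup.mk' T a))
  rw [h8] at h11
  exact h11

/-- **the subgroup of index `5`** -/
theorem exists_H {G : Type*} [Group G] [Finite G] (T : Subgroup G) [T.Normal] (hcyc : IsCyclic (G ⧸ T))
    (h1 : ∃ x : G, orderOf x = 11) (h2 : ∀ x : G, orderOf x = 11 → x ∈ T) (hO : H741.Lb.OneC 11 G)
    (hcl : ∀ x g : T, orderOf x = 11 → ∀ j : ℕ, (j = 3 ∨ j = 4 ∨ j = 5 ∨ j = 9) → g * x * g⁻¹ ≠ x ^ j) :
    ∃ H : Subgroup G, H.Normal ∧ T ≤ H ∧ H.index = 5 ∧ ∀ x, orderOf x = 11 → centralizer ({x} : Set G) ≤ H := by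
  letI : CommGroup (G ⧸ T) := IsCyclic.commGroup
  obtain ⟨x₀, hx₀⟩ := h1
  set n := Nat.card (G ⧸ T) with hn
  have hn0 : 0 < n := Nat.card_pos
  have h5n : 5 ∣ n := (five_dvd T hcyc h2 hO hcl hx₀).trans (Subgroup.index_dvd_card _)
  obtain ⟨d, hd⟩ := h5n
  let K : Subgroup (G ⧸ T) := (powMonoidHom d : G ⧸ T →* G ⧸ T).ker
  have hK : K.index = 5 := by
    rw [IsCyclic.index_powMonoidHom_ker, ← hn, hd, Nat.gcd_mul_left_left]
    exact Nat.mul_div_cancel _ (by omega)
  refine ⟨K.comap (QuotientGroup.mk' T), inferInstance, ?_, ?_, ?_⟩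
  · intro t ht
    rw [Subgroup.mem_comap]
    have : QuotientGroup.mk' T t = 1 := (QuotientGroup.eq_one_iff _).2 ht
    rw [this]
    exact one_mem _
  · rw [Subgroup.index_comap_of_surjective _ (QuotientGroup.mk'_surjective T), hK]
  · intro x hx c hc
    rw [Subgroup.mem_comap]
    change (QuotientGroup.mk' T c) ^ d = 1
    have h3 := five_dvd T hcyc h2 hO hcl hx
    set C : Subgroup (G ⧸ T) := (centralizer ({x} : Set G)).map (QuotientGroup.mk' T) with hC
    have h4 := C.card_mul_index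
    obtain ⟨e, he⟩ := h3
    rw [he, ← hn, hd] at h4
    have h5 : Nat.card C * e = d := by
      have h6 : 5 * (Nat.card C * e) = 5 * d := by rw [← h4]; ring
      exact Nat.eq_of_mul_eq_mul_left (by norm_num) h6
    have h6 : (⟨QuotientGroup.mk' T c, Subgroup.mem_map_of_mem _ hc⟩ : C) ^ Nat.card C = 1 := pow_card_eq_one'
    have h7 : (QuotientGroup.mk' T c) ^ Nat.card C = 1 := congrArg Subtype.val h6
    rw [← h5, pow_mul, h7, one_pow]

end Cfsg.Agent.H743.LB
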